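import Groth.Agent.ShriekTensorLib.Stalk
import Groth.Agent.ShriekLib.Stalk
import Groth.Agent.ShriekLib.IsSheaf
import Groth.Agent.EtPtsLib.Agree
/-!
The projection formula for direct images with proper support along separated locally quasi-finite morphisms.
-/

set_option autoImplicit false
set_option backward.isDefEq.respectTransparency false
set_option backward.isDefEq.respectTransparency.types false

universe u

open CategoryTheory CategoryTheory.Limits AlgebraicGeometry Opposite TensorProduct

noncomputable section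

namespace Groth.Agent.ShriekTensorLib

open EtPtsLib ShriekLib

variable {X Y : Scheme.{u}} (f : X ⟶ Y) (F : EtCoh.Ab X) (G : EtCoh.Ab Y)

/-- The tensor product on the source. -/
abbrev tens : EtCoh.Ab X := (EtTens.tensorBi.obj F).obj ((EtCoh.pull f).obj G)

/-- The unit of inverse and direct image, on presheaves. -/
abbrev unitP : G.obj ⟶ ((EtCoh.push f).obj ((EtCoh.pull f).obj G)).obj :=
  ((EtCoh.pullPushAdj f).unit.app G).hom

/-- The unsheafified tensor product on the source. -/
abbrev tensPre : X.Etaleᵒᵖ ⥤ AddCommGrpCat.{u + 1} :=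
  EtTens.tensorObj F.obj ((EtCoh.pull f).obj G).obj

/-- The map to the sheafified tensor product. -/
abbrev shfy : tensPre f F G ⟶ (tens f F G).obj :=
  CategoryTheory.toSheafify X.smallEtaleTopology (tensPre f F G)

/-- The product of a section with proper support and a section on the base. -/
def mulApp (V : Y.Etaleᵒᵖ) : (EtTens.tensorObj (EtShriek.lowerShriekPre f F) G.obj).obj V ⟶
    (tens f F G).obj.obj ((EtCoh.bc f).op.obj V) :=
  (EtTens.tensorHom (EtShriek.lowerShriekPreι f F) (unitP f G)).app V ≫
    (shfy f F G).app ((EtCoh.bc f).op.obj V)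

theorem mulApp_tmul (V : Y.Etale) (s : EtShriek.shriekSubgroup f F V) (g : G.obj.obj (op V)) :
    mulApp f F G (op V) (s ⊗ₜ[ℤ] g) =
      (shfy f F G).app (op ((EtCoh.bc f).obj V)) (s.1 ⊗ₜ[ℤ] (unitP f G).app (op V) g) :=
  rfl

theorem mulApp_map {V V' : Y.Etaleᵒᵖ} (φ : V ⟶ V') :
    (EtTens.tensorObj (EtShriek.lowerShriekPre f F) G.obj).map φ ≫ mulApp f F G V' =
      mulApp f F G V ≫ (tens f F G).obj.map ((EtCoh.bc f).op.map φ) := by
  rw [mulApp, mulApp, ← Category.assoc,
    (EtTens.tensorHom (EtShriek.lowerShriekPreι f F) (unitP f G)).naturality φ, Category.assoc, Category.assoc]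
  exact congrArg (_ ≫ ·) ((shfy f F G).naturality ((EtCoh.bc f).op.map φ))

theorem sectSupp_mulApp_subset (V : Y.Etale) (s : EtShriek.shriekSubgroup f F V) (g : G.obj.obj (op V)) :
    EtShriek.sectSupp (tens f F G) ((EtCoh.bc f).obj V) (mulApp f F G (op V) (s ⊗ₜ[ℤ] g)) ⊆
      EtShriek.sectSupp F ((EtCoh.bc f).obj V) s.1 := by
  intro x hx W h hw hs
  apply hx W h hw
  rw [mulApp_tmul, ← NatTrans.naturality_apply (shfy f F G) h.op]
  refine Eq.trans (congrArg ((shfy f F G).app (op W)) ?_) (map_zero _)
  rw [EtTens.tensorObj_map_tmul]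
  exact (congrArg (· ⊗ₜ[ℤ] _) hs).trans (TensorProduct.zero_tmul _ _)

variable [LocallyOfFiniteType f]

theorem mulApp_mem (V : Y.Etale) (t : (EtTens.tensorObj (EtShriek.lowerShriekPre f F) G.obj).obj (op V)) :
    mulApp f F G (op V) t ∈ EtShriek.shriekSubgroup f (tens f F G) V := by
  induction t using TensorProduct.induction_on with
  | zero => rw [map_zero]; exact zero_mem _
  | tmul s g =>
    refine AddSubgroup.subset_closure fun V' φ => ⟨_, ?_,
      (mem_shriekSubgroup_iff F f V' ((EtShriek.lowerShriekPre f F).map φ.op s).1).1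
        ((EtShriek.lowerShriekPre f F).map φ.op s).2⟩
    have e := congrArg (fun m => m (s ⊗ₜ[ℤ] g)) (mulApp_map f F G φ.op)
    rw [ConcreteCategory.comp_apply, ConcreteCategory.comp_apply] at e
    refine Eq.trans_subset (congrArg (EtShriek.sectSupp (tens f F G) _) e.symm) ?_
    exact sectSupp_mulApp_subset f F G V' _ (G.obj.map φ.op g)
  | add a b ha hb => rw [map_add]; exact add_mem ha hb

/-- The product map of presheaves. -/
def mulPre : EtTens.tensorObj (EtShriek.lowerShriekPre f F) G.obj ⟶ EtShriek.lowerShriekPre f (tens f F G) where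
  app V := AddCommGrpCat.ofHom ((mulApp f F G V).hom.codRestrict (EtShriek.shriekSubgroup f (tens f F G) V.unop)
    (mulApp_mem f F G V.unop))
  naturality V V' φ := by
    ext t
    apply Subtype.ext
    exact congrArg (fun m => m t) (mulApp_map f F G φ)

section Stalks

variable {Ω : Type u} [Field Ω] [IsAlgClosed Ω] (η : Spec (CommRingCat.of Ω) ⟶ Y)

/-- The comparison of stalks of the inverse image at a point of the fibre. -/
def unitAt (ζ : EtaleSplit.GPts f η) : (Scheme.pointSmallEtale η).presheafFiber.obj G.obj ⟶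
    (Scheme.pointSmallEtale ζ.1).presheafFiber.obj ((EtCoh.pull f).obj G).obj :=
  (Scheme.pointSmallEtale η).presheafFiber.map (unitP f G) ≫ pushStalkAt f η ζ _

theorem unitAt_germ (ζ : EtaleSplit.GPts f η) (V : Y.Etale) (l : (Scheme.pointSmallEtale η).fiber.obj V)
    (g : G.obj.obj (op V)) :
    unitAt f G η ζ ((Scheme.pointSmallEtale η).toPresheafFiber V l G.obj g) =
      (Scheme.pointSmallEtale ζ.1).toPresheafFiber _ (liftBcAt f η ζ V l) ((EtCoh.pull f).obj G).obj
        ((unitP f G).app (op V) g) := by
  have h : (Scheme.pointSmallEtale η).toPresheafFiber V l G.obj ≫ unitAt f G η ζ =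
      (unitP f G).app (op V) ≫
        (Scheme.pointSmallEtale ζ.1).toPresheafFiber _ (liftBcAt f η ζ V l) ((EtCoh.pull f).obj G).obj := by
    rw [unitAt, GrothendieckTopology.Point.toPresheafFiber_naturality_assoc]
    exact congrArg (_ ≫ ·) (toPresheafFiber_pushStalkAt f η ζ _ V l)
  exact congrArg (fun m => m g) h

theorem bijective_unitAt (ζ : EtaleSplit.GPts f η) : Function.Bijective (unitAt f G η ζ) := by
  obtain ⟨z, rfl⟩ := ζ
  have e : unitAt f G (z ≫ f) ⟨z, rfl⟩ = unitStalk f z G := by
    refine (Scheme.pointSmallEtale (z ≫ f)).presheafFiber_hom_ext fun V l => ?_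
    rw [toPresheafFiber_unitStalk]
    ext g
    exact unitAt_germ f G (z ≫ f) ⟨z, rfl⟩ V l g
  rw [e]
  exact bijective_unitStalk f z G

/-- The map of stalks induced by sheafifying the tensor product. -/
def shfyAt (ζ : EtaleSplit.GPts f η) :
    (Scheme.pointSmallEtale ζ.1).presheafFiber.obj (tensPre f F G) ⟶
      (Scheme.pointSmallEtale ζ.1).presheafFiber.obj (tens f F G).obj :=
  (Scheme.pointSmallEtale ζ.1).presheafFiber.map (shfy f F G)

theorem bijective_shfyAt (ζ : EtaleSplit.GPts f η) : Function.Bijective (shfyAt f F G η ζ) :=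
  (Scheme.pointSmallEtale ζ.1).toPresheafFiber_map_bijective _

variable [IsSeparated f] [LocallyQuasiFinite f]

theorem psi_mul (ζ : EtaleSplit.GPts f η)
    (x : ToType ((Scheme.pointSmallEtale η).presheafFiber.obj (EtShriek.lowerShriekPre f F)))
    (y : ToType ((Scheme.pointSmallEtale η).presheafFiber.obj G.obj)) :
    psi f η ζ (tens f F G) ((Scheme.pointSmallEtale η).presheafFiber.map (mulPre f F G)
        (pair (Scheme.pointSmallEtale η) _ _ x y)) =
      shfyAt f F G η ζ (pair (Scheme.pointSmallEtale ζ.1) _ _ (psi f η ζ F x) (unitAt f G η ζ y)) := by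
  obtain ⟨V, l, s, g, rfl, rfl⟩ := exists_rep₂ (Scheme.pointSmallEtale η) _ _ x y
  rw [pair_germ, psi_germ, unitAt_germ, pair_germ, GrothendieckTopology.Point.toPresheafFiber_naturality_apply,
    shfyAt, GrothendieckTopology.Point.toPresheafFiber_naturality_apply]
  exact psi_germ f η ζ (tens f F G) V l _

/-- The component of the inverse of the product map. -/
def back (ζ : EtaleSplit.GPts f η) :
    ToType ((Scheme.pointSmallEtale ζ.1).presheafFiber.obj (tens f F G).obj) →+
      ToType ((Scheme.pointSmallEtale η).presheafFiber.obj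
        (EtTens.tensorObj (EtShriek.lowerShriekPre f F) G.obj)) :=
  (fromTensor (Scheme.pointSmallEtale η) (EtShriek.lowerShriekPre f F) G.obj).comp
    ((TensorProduct.map (single f η ζ F).hom.toIntLinearMap
        (AddEquiv.ofBijective (unitAt f G η ζ).hom (bijective_unitAt f G η ζ)).symm.toAddMonoidHom.toIntLinearMap
      ).toAddMonoidHom.comp
      ((can (Scheme.pointSmallEtale ζ.1) F.obj ((EtCoh.pull f).obj G).obj).hom.comp
        (AddEquiv.ofBijective (shfyAt f F G η ζ).hom (bijective_shfyAt f F G η ζ)).symm.toAddMonoidHom))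

theorem back_pair (ζ : EtaleSplit.GPts f η)
    (u : ToType ((Scheme.pointSmallEtale ζ.1).presheafFiber.obj F.obj))
    (y : ToType ((Scheme.pointSmallEtale η).presheafFiber.obj G.obj)) :
    back f F G η ζ (shfyAt f F G η ζ (pair (Scheme.pointSmallEtale ζ.1) _ _ u (unitAt f G η ζ y))) =
      pair (Scheme.pointSmallEtale η) _ _ (single f η ζ F u) y := by
  simp only [back, AddMonoidHom.comp_apply]
  erw [AddEquiv.symm_apply_apply, can_pair]
  refine (fromTensor_tmul _ _ _ _ _).trans ?_
  congr 2
  exact (AddEquiv.ofBijective (unitAt f G η ζ).hom (bijective_unitAt f G η ζ)).symm_apply_apply y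

theorem bijective_mulPre_stalk :
    Function.Bijective ((Scheme.pointSmallEtale η).presheafFiber.map (mulPre f F G)) := by
  classical
  have hfin : ∀ b : ToType ((Scheme.pointSmallEtale η).presheafFiber.obj
      (EtShriek.lowerShriekPre f (tens f F G))),
      (Function.support fun ζ => back f F G η ζ (psi f η ζ (tens f F G) b)).Finite := fun b =>
    (finite_psi_ne_zero f η b).subset fun ζ hζ h => hζ (by simp only [h]; exact map_zero _)
  let R : ToType ((Scheme.pointSmallEtale η).presheafFiber.obj (EtShriek.lowerShriekPre f (tens f F G))) →+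
      ToType ((Scheme.pointSmallEtale η).presheafFiber.obj
        (EtTens.tensorObj (EtShriek.lowerShriekPre f F) G.obj)) :=
    AddMonoidHom.mk' (fun b => ∑ᶠ ζ, back f F G η ζ (psi f η ζ (tens f F G) b)) fun a b => by
      simp only [map_add]
      exact finsum_add_distrib (hfin a) (hfin b)
  have hR : ∀ a, R ((Scheme.pointSmallEtale η).presheafFiber.map (mulPre f F G) a) = a := by
    intro a
    induction a using fiber_induction (Scheme.pointSmallEtale η) _ _ with
    | h0 => rw [map_zero, map_zero]
    | hp x y =>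
      change ∑ᶠ ζ, back f F G η ζ (psi f η ζ (tens f F G) _) = _
      simp only [psi_mul, back_pair]
      have hs : (Function.support fun ζ => single f η ζ F (psi f η ζ F x)).Finite :=
        (finite_psi_ne_zero f η x).subset fun ζ hζ h => hζ (by simp only [h]; exact map_zero _)
      conv_rhs => rw [eq_sum_single f η x]
      exact (AddMonoidHom.map_finsum
        ((AddMonoidHom.flip (pair (Scheme.pointSmallEtale η) (EtShriek.lowerShriekPre f F) G.obj)) y) hs).symm
    | hadd a b ha hb => rw [map_add, map_add, ha, hb]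
  refine ⟨Function.LeftInverse.injective hR, fun b => ?_⟩
  suffices h : b ∈ ((Scheme.pointSmallEtale η).presheafFiber.map (mulPre f F G)).hom.range from h
  rw [eq_sum_single f η b]
  refine finsum_induction (fun z => z ∈ ((Scheme.pointSmallEtale η).presheafFiber.map (mulPre f F G)).hom.range)
    (zero_mem _) (fun _ _ => add_mem) fun ζ => ?_
  obtain ⟨c, hc⟩ := (bijective_shfyAt f F G η ζ).2 (psi f η ζ (tens f F G) b)
  rw [← hc]
  clear hc
  induction c using fiber_induction (Scheme.pointSmallEtale ζ.1) _ _ with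
  | h0 => rw [map_zero, map_zero]; exact zero_mem _
  | hp u v =>
    obtain ⟨y, rfl⟩ := (bijective_unitAt f G η ζ).2 v
    refine ⟨pair (Scheme.pointSmallEtale η) _ _ (single f η ζ F u) y, psi_injective f η fun ζ' => ?_⟩
    refine (psi_mul f F G η ζ' _ _).trans ?_
    by_cases h : ζ' = ζ
    · subst h
      rw [psi_single_self, psi_single_self]
    · rw [psi_single_ne f η ζ ζ' h, psi_single_ne f η ζ ζ' h, map_zero, AddMonoidHom.zero_apply, map_zero]
  | hadd a b ha hb => rw [map_add, map_add]; exact add_mem ha hb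

end Stalks

variable [IsSeparated f] [LocallyQuasiFinite f]

theorem isIso_mul :
    IsIso ((presheafToSheaf Y.smallEtaleTopology AddCommGrpCat.{u + 1}).map (mulPre f F G)) := by
  refine isIso_of_alg_ab _ fun y => ?_
  haveI := (ConcreteCategory.isIso_iff_bijective _).2 (bijective_mulPre_stalk f F G (geomPtAlg y))
  haveI : IsIso ((presheafToSheaf Y.smallEtaleTopology AddCommGrpCat.{u + 1} ⋙
      (Scheme.pointSmallEtale (geomPtAlg y)).sheafFiber).map (mulPre f F G)) :=
    (NatIso.isIso_map_iff
      ((Scheme.pointSmallEtale (geomPtAlg y)).presheafToSheafCompSheafFiberIso AddCommGrpCat.{u + 1}) _).2 ‹_›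
  exact ConcreteCategory.bijective_of_isIso ((presheafToSheaf Y.smallEtaleTopology AddCommGrpCat.{u + 1} ⋙
      (Scheme.pointSmallEtale (geomPtAlg y)).sheafFiber).map (mulPre f F G))

/-- The projection formula. -/
theorem nonempty_projection_iso :
    Nonempty ((EtTens.tensorBi.obj ((EtShriek.lowerShriek f).obj F)).obj G ≅
      (EtShriek.lowerShriek f).obj (tens f F G)) := by
  haveI := CategoryTheory.isIso_toSheafify Y.smallEtaleTopology (isSheaf_lowerShriekPre F f)
  haveI : IsIso (EtTens.tensorHom (CategoryTheory.toSheafify Y.smallEtaleTopology (EtShriek.lowerShriekPre f F))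
      (𝟙 G.obj)) :=
    ⟨⟨EtTens.tensorHom (inv (CategoryTheory.toSheafify Y.smallEtaleTopology (EtShriek.lowerShriekPre f F)))
      (𝟙 G.obj),
      by rw [← EtTens.tensorHom_comp, IsIso.hom_inv_id, Category.comp_id, EtTens.tensorHom_id],
      by rw [← EtTens.tensorHom_comp, IsIso.inv_hom_id, Category.comp_id, EtTens.tensorHom_id]⟩⟩
  haveI := isIso_mul f F G
  exact ⟨((presheafToSheaf Y.smallEtaleTopology AddCommGrpCat.{u + 1}).mapIso
      (asIso (EtTens.tensorHom (CategoryTheory.toSheafify Y.smallEtaleTopology (EtShriek.lowerShriekPre f F))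
        (𝟙 G.obj)))).symm ≪≫
    asIso ((presheafToSheaf Y.smallEtaleTopology AddCommGrpCat.{u + 1}).map (mulPre f F G))⟩

end Groth.Agent.ShriekTensorLib

end
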