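import Groth.Prelude.Def_EtTens2
import Groth.Agent.EtPtsLib.Criteria

/-!
Stalks of pointwise tensor products of abelian presheaves on the small étale site.
-/

set_option autoImplicit false
set_option backward.isDefEq.respectTransparency false
set_option backward.isDefEq.respectTransparency.types false

universe u

open CategoryTheory CategoryTheory.Limits AlgebraicGeometry Opposite TensorProduct

noncomputable section

namespace Groth.Agent.ShriekTensorLib

variable {X : Scheme.{u}} (Φ : GrothendieckTopology.Point.{u} X.smallEtaleTopology)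
  (P Q : X.Etaleᵒᵖ ⥤ AddCommGrpCat.{u + 1})

theorem germ_res (R : X.Etaleᵒᵖ ⥤ AddCommGrpCat.{u + 1}) {U W : X.Etale} (g : W ⟶ U) {k : Φ.fiber.obj W}
    {l : Φ.fiber.obj U} (h : Φ.fiber.map g k = l) (m : R.obj (op U)) :
    Φ.toPresheafFiber U l R m = Φ.toPresheafFiber W k R (R.map g.op m) := by
  subst h
  exact (Φ.toPresheafFiber_w_apply g k R m).symm

/-- The germ of a product is the product of the germs. -/
theorem pair_congr {U U' : X.Etale} (l : Φ.fiber.obj U) (l' : Φ.fiber.obj U') (m : P.obj (op U)) (n : Q.obj (op U))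
    (m' : P.obj (op U')) (n' : Q.obj (op U'))
    (hm : Φ.toPresheafFiber U l P m = Φ.toPresheafFiber U' l' P m')
    (hn : Φ.toPresheafFiber U l Q n = Φ.toPresheafFiber U' l' Q n') :
    Φ.toPresheafFiber U l (EtTens.tensorObj P Q) (m ⊗ₜ[ℤ] n) =
      Φ.toPresheafFiber U' l' (EtTens.tensorObj P Q) (m' ⊗ₜ[ℤ] n') := by
  haveI := Φ.isCofiltered
  obtain ⟨⟨W, k⟩, ⟨a, ha⟩, ⟨b, hb⟩, -⟩ : ∃ (e : Φ.fiber.Elements) (_ : e ⟶ Φ.fiber.elementsMk U l)
      (_ : e ⟶ Φ.fiber.elementsMk U' l'), True :=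
    ⟨_, IsCofiltered.minToLeft _ _, IsCofiltered.minToRight _ _, trivial⟩
  rw [germ_res Φ P a ha, germ_res Φ P b hb, Φ.toPresheafFiber_eq_iff'] at hm
  obtain ⟨W₁, c, k₁, hk₁, e₁⟩ := hm
  rw [germ_res Φ Q a ha, germ_res Φ Q b hb, germ_res Φ Q c hk₁, germ_res Φ Q c hk₁,
    Φ.toPresheafFiber_eq_iff'] at hn
  obtain ⟨W₂, d, k₂, hk₂, e₂⟩ := hn
  rw [germ_res Φ _ a ha, germ_res Φ _ c hk₁, germ_res Φ _ d hk₂,
    germ_res Φ _ b hb, germ_res Φ _ c hk₁, germ_res Φ _ d hk₂]
  congr 1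
  simp only [EtTens.tensorObj_map_tmul, e₂, e₁]

/-- Two germs are defined on a common neighbourhood. -/
theorem exists_rep₂ (x : ToType (Φ.presheafFiber.obj P)) (y : ToType (Φ.presheafFiber.obj Q)) :
    ∃ (U : X.Etale) (l : Φ.fiber.obj U) (m : P.obj (op U)) (n : Q.obj (op U)),
      Φ.toPresheafFiber U l P m = x ∧ Φ.toPresheafFiber U l Q n = y := by
  haveI := Φ.isCofiltered
  obtain ⟨U, l, m, rfl⟩ := Φ.toPresheafFiber_jointly_surjective x
  obtain ⟨U', l', n, rfl⟩ := Φ.toPresheafFiber_jointly_surjective y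
  let f₁ := IsCofiltered.minToLeft (Φ.fiber.elementsMk U l) (Φ.fiber.elementsMk U' l')
  let f₂ := IsCofiltered.minToRight (Φ.fiber.elementsMk U l) (Φ.fiber.elementsMk U' l')
  refine ⟨_, (IsCofiltered.min (Φ.fiber.elementsMk U l) (Φ.fiber.elementsMk U' l')).2,
    P.map f₁.1.op m, Q.map f₂.1.op n, ?_, ?_⟩
  · exact (Φ.toPresheafFiber_w_apply _ _ _ _).trans (congrArg (fun t => Φ.toPresheafFiber U t P m) f₁.2)
  · exact (Φ.toPresheafFiber_w_apply _ _ _ _).trans (congrArg (fun t => Φ.toPresheafFiber U' t Q n) f₂.2)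

/-- The product of two germs. -/
def pair₀ (x : ToType (Φ.presheafFiber.obj P)) (y : ToType (Φ.presheafFiber.obj Q)) :
    ToType (Φ.presheafFiber.obj (EtTens.tensorObj P Q)) :=
  Φ.toPresheafFiber (exists_rep₂ Φ P Q x y).choose (exists_rep₂ Φ P Q x y).choose_spec.choose
    (EtTens.tensorObj P Q) ((exists_rep₂ Φ P Q x y).choose_spec.choose_spec.choose ⊗ₜ[ℤ]
      (exists_rep₂ Φ P Q x y).choose_spec.choose_spec.choose_spec.choose)

theorem pair₀_germ {U : X.Etale} (l : Φ.fiber.obj U) (m : P.obj (op U)) (n : Q.obj (op U)) :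
    pair₀ Φ P Q (Φ.toPresheafFiber U l P m) (Φ.toPresheafFiber U l Q n) =
      Φ.toPresheafFiber U l (EtTens.tensorObj P Q) (m ⊗ₜ[ℤ] n) :=
  pair_congr Φ P Q _ _ _ _ _ _ (exists_rep₂ Φ P Q _ _).choose_spec.choose_spec.choose_spec.choose_spec.1
    (exists_rep₂ Φ P Q _ _).choose_spec.choose_spec.choose_spec.choose_spec.2

theorem pair₀_add_left (x x' : ToType (Φ.presheafFiber.obj P)) (y : ToType (Φ.presheafFiber.obj Q)) :
    pair₀ Φ P Q (x + x') y = pair₀ Φ P Q x y + pair₀ Φ P Q x' y := by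
  haveI := Φ.isCofiltered
  obtain ⟨U, l, m, m', rfl, rfl⟩ := Φ.toPresheafFiber_jointly_surjective₂ x x'
  obtain ⟨U', l', n, rfl⟩ := Φ.toPresheafFiber_jointly_surjective y
  let f₁ := IsCofiltered.minToLeft (Φ.fiber.elementsMk U l) (Φ.fiber.elementsMk U' l')
  let f₂ := IsCofiltered.minToRight (Φ.fiber.elementsMk U l) (Φ.fiber.elementsMk U' l')
  let k := (IsCofiltered.min (Φ.fiber.elementsMk U l) (Φ.fiber.elementsMk U' l')).2
  have hl : Φ.fiber.map f₁.1 k = l := f₁.2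
  have hl' : Φ.fiber.map f₂.1 k = l' := f₂.2
  rw [← map_add, germ_res Φ P _ hl, germ_res Φ P _ hl, germ_res Φ P _ hl, germ_res Φ Q _ hl',
    pair₀_germ, pair₀_germ, pair₀_germ, ← map_add, map_add]
  congr 1
  exact TensorProduct.add_tmul _ _ _

theorem pair₀_add_right (x : ToType (Φ.presheafFiber.obj P)) (y y' : ToType (Φ.presheafFiber.obj Q)) :
    pair₀ Φ P Q x (y + y') = pair₀ Φ P Q x y + pair₀ Φ P Q x y' := by
  haveI := Φ.isCofiltered
  obtain ⟨U, l, m, rfl⟩ := Φ.toPresheafFiber_jointly_surjective x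
  obtain ⟨U', l', n, n', rfl, rfl⟩ := Φ.toPresheafFiber_jointly_surjective₂ y y'
  let f₁ := IsCofiltered.minToLeft (Φ.fiber.elementsMk U l) (Φ.fiber.elementsMk U' l')
  let f₂ := IsCofiltered.minToRight (Φ.fiber.elementsMk U l) (Φ.fiber.elementsMk U' l')
  let k := (IsCofiltered.min (Φ.fiber.elementsMk U l) (Φ.fiber.elementsMk U' l')).2
  have hl : Φ.fiber.map f₁.1 k = l := f₁.2
  have hl' : Φ.fiber.map f₂.1 k = l' := f₂.2
  rw [← map_add, germ_res Φ P _ hl, germ_res Φ Q _ hl', germ_res Φ Q _ hl', germ_res Φ Q _ hl',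
    pair₀_germ, pair₀_germ, pair₀_germ, ← map_add, map_add]
  congr 1
  exact TensorProduct.tmul_add _ _ _

/-- The product of germs, as a biadditive map. -/
def pair : (ToType (Φ.presheafFiber.obj P)) →+ (ToType (Φ.presheafFiber.obj Q)) →+
    (ToType (Φ.presheafFiber.obj (EtTens.tensorObj P Q))) :=
  AddMonoidHom.mk' (fun x => AddMonoidHom.mk' (pair₀ Φ P Q x) (pair₀_add_right Φ P Q x)) fun x x' =>
    AddMonoidHom.ext (pair₀_add_left Φ P Q x x')

theorem pair_germ {U : X.Etale} (l : Φ.fiber.obj U) (m : P.obj (op U)) (n : Q.obj (op U)) :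
    pair Φ P Q (Φ.toPresheafFiber U l P m) (Φ.toPresheafFiber U l Q n) =
      Φ.toPresheafFiber U l (EtTens.tensorObj P Q) (m ⊗ₜ[ℤ] n) :=
  pair₀_germ Φ P Q l m n

/-- Induction on germs of a tensor product. -/
theorem fiber_induction {C : ToType (Φ.presheafFiber.obj (EtTens.tensorObj P Q)) → Prop} (h0 : C 0)
    (hp : ∀ x y, C (pair Φ P Q x y)) (hadd : ∀ a b, C a → C b → C (a + b))
    (a : ToType (Φ.presheafFiber.obj (EtTens.tensorObj P Q))) : C a := by
  obtain ⟨U, l, t, rfl⟩ := Φ.toPresheafFiber_jointly_surjective a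
  induction t using TensorProduct.induction_on with
  | zero => rw [map_zero]; exact h0
  | tmul m n => rw [← pair_germ]; exact hp _ _
  | add a b ha hb => rw [map_add]; exact hadd _ _ ha hb

/-- The comparison to the tensor product of the stalks. -/
def can : Φ.presheafFiber.obj (EtTens.tensorObj P Q) ⟶
    AddCommGrpCat.of ((ToType (Φ.presheafFiber.obj P)) ⊗[ℤ] (ToType (Φ.presheafFiber.obj Q))) :=
  Φ.presheafFiberDesc (fun U l => AddCommGrpCat.ofHom (TensorProduct.map (Φ.toPresheafFiber U l P).hom.toIntLinearMap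
      (Φ.toPresheafFiber U l Q).hom.toIntLinearMap).toAddMonoidHom)
    fun U V g l => EtTens.hom_ext_tmul fun m n => by
      change (Φ.toPresheafFiber U l P (P.map g.op m)) ⊗ₜ[ℤ] (Φ.toPresheafFiber U l Q (Q.map g.op n)) =
        (Φ.toPresheafFiber V (Φ.fiber.map g l) P m) ⊗ₜ[ℤ] (Φ.toPresheafFiber V (Φ.fiber.map g l) Q n)
      rw [Φ.toPresheafFiber_w_apply, Φ.toPresheafFiber_w_apply]

theorem can_pair (x : ToType (Φ.presheafFiber.obj P)) (y : ToType (Φ.presheafFiber.obj Q)) :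
    can Φ P Q (pair Φ P Q x y) = x ⊗ₜ[ℤ] y := by
  obtain ⟨U, l, m, n, rfl, rfl⟩ := exists_rep₂ Φ P Q x y
  rw [pair_germ, ← ConcreteCategory.comp_apply]
  have h : Φ.toPresheafFiber U l (EtTens.tensorObj P Q) ≫ can Φ P Q = AddCommGrpCat.ofHom
      (TensorProduct.map (Φ.toPresheafFiber U l P).hom.toIntLinearMap
        (Φ.toPresheafFiber U l Q).hom.toIntLinearMap).toAddMonoidHom :=
    colimit.ι_desc _ _
  rw [h]
  rfl

/-- The inverse comparison. -/
def fromTensor : ((ToType (Φ.presheafFiber.obj P)) ⊗[ℤ] (ToType (Φ.presheafFiber.obj Q))) →+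
    (ToType (Φ.presheafFiber.obj (EtTens.tensorObj P Q))) :=
  TensorProduct.liftAddHom (pair Φ P Q) fun r x y => by
    rw [map_zsmul, map_zsmul]
    rfl

theorem fromTensor_tmul (x : ToType (Φ.presheafFiber.obj P)) (y : ToType (Φ.presheafFiber.obj Q)) :
    fromTensor Φ P Q (x ⊗ₜ[ℤ] y) = pair Φ P Q x y :=
  TensorProduct.liftAddHom_tmul _ _ _ _

theorem fromTensor_can (a : ToType (Φ.presheafFiber.obj (EtTens.tensorObj P Q))) :
    fromTensor Φ P Q (can Φ P Q a) = a := by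
  induction a using fiber_induction Φ P Q with
  | h0 => rw [map_zero, map_zero]
  | hp x y => rw [can_pair, fromTensor_tmul]
  | hadd a b ha hb => rw [map_add, map_add, ha, hb]

end Groth.Agent.ShriekTensorLib

end
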